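import Mathlib
import Cfsg.Agent.Lib.LinFix.JordanIso
import Cfsg.Agent.Lib.Conj.Unitary

/-!
Classes of elements of order `p` in linear groups in characteristic `p`, via rank sequences.
-/

set_option autoImplicit false

namespace CfsgLib.UnipClass

open Matrix CfsgLib.LinFix

variable {K : Type*} [Field K] [Fintype K] {n p : ℕ} [Fact p.Prime] [CharP K p]

/-- Ranks of the powers of `g - 1`. -/
noncomputable def jrank (g : Matrix (Fin n) (Fin n) K) (j : ℕ) : ℕ := ((g - 1) ^ j).rank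

omit [Fintype K] in
theorem jrank_eq (g : Matrix (Fin n) (Fin n) K) (j : ℕ) :
    jrank g j = Module.finrank K (LinearMap.range ((Matrix.toLin' g - 1) ^ j)) := by
  show Module.finrank K (LinearMap.range (Matrix.mulVecLin ((g - 1) ^ j))) = _
  rw [← Matrix.toLin'_apply']
  have h : Matrix.toLinAlgEquiv' ((g - 1) ^ j) = (Matrix.toLinAlgEquiv' g - 1) ^ j := by
    rw [map_pow, map_sub, map_one]
  exact congrArg (fun f => Module.finrank K (LinearMap.range f)) h

omit [Fintype K] in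
theorem jrank_units_conj (c g : GL (Fin n) K) (j : ℕ) :
    jrank ((c * g * c⁻¹ : GL (Fin n) K) : Matrix (Fin n) (Fin n) K) j = jrank (g : Matrix (Fin n) (Fin n) K) j := by
  unfold jrank
  have h1 : ((c * g * c⁻¹ : GL (Fin n) K) : Matrix (Fin n) (Fin n) K) - 1 =
      (c : Matrix (Fin n) (Fin n) K) * ((g : Matrix (Fin n) (Fin n) K) - 1) * (↑c⁻¹ : Matrix (Fin n) (Fin n) K) := by
    rw [mul_sub, sub_mul, mul_one, ← Units.val_mul c c⁻¹, mul_inv_cancel, Units.val_one, Units.val_mul,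
      Units.val_mul]
  rw [h1, Units.conj_pow, Matrix.rank_mul_eq_left_of_isUnit_det _ _ ((Matrix.isUnit_iff_isUnit_det _).1 c⁻¹.isUnit),
    Matrix.rank_mul_eq_right_of_isUnit_det _ _ ((Matrix.isUnit_iff_isUnit_det _).1 c.isUnit)]

omit [Fintype K] in
theorem jrank_of_isConj {g h : GL (Fin n) K} (hgh : IsConj g h) (j : ℕ) :
    jrank (g : Matrix (Fin n) (Fin n) K) j = jrank (h : Matrix (Fin n) (Fin n) K) j := by
  obtain ⟨c, rfl⟩ := isConj_iff.1 hgh
  exact (jrank_units_conj c g j).symm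

omit [Fintype K] in
theorem nilpotent_of_pow {g : GL (Fin n) K} (hg : g ^ p = 1) :
    (Matrix.toLin' (g : Matrix (Fin n) (Fin n) K) - 1) ^ p = 0 := by
  rw [sub_one_pow_char, sub_eq_zero]
  show Matrix.toLinAlgEquiv' (g : Matrix (Fin n) (Fin n) K) ^ p = 1
  rw [← map_pow, ← Units.val_pow_eq_pow_val, hg, Units.val_one, map_one]

omit [Fintype K] in
theorem isConj_of_jrank {g h : GL (Fin n) K} (hg : g ^ p = 1) (hh : h ^ p = 1)
    (hr : ∀ j, jrank (g : Matrix (Fin n) (Fin n) K) j = jrank (h : Matrix (Fin n) (Fin n) K) j) :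
    IsConj g h := by
  obtain ⟨e, he⟩ := exists_equiv_of_ranks ⟨p, nilpotent_of_pow hg⟩ ⟨p, nilpotent_of_pow hh⟩
    (fun j => by rw [← jrank_eq, ← jrank_eq]; exact hr j)
  have hE : LinearMap.toMatrix' (e : (Fin n → K) →ₗ[K] Fin n → K) * LinearMap.toMatrix' (e.symm : (Fin n → K) →ₗ[K] Fin n → K) = 1 := by
    rw [← LinearMap.toMatrix'_comp, LinearEquiv.comp_symm, LinearMap.toMatrix'_id]
  let c : GL (Fin n) K := ⟨_, _, hE, mul_eq_one_comm.mp hE⟩
  refine isConj_iff.2 ⟨c, mul_inv_eq_iff_eq_mul.2 (Units.ext ?_)⟩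
  show LinearMap.toMatrix' (e : (Fin n → K) →ₗ[K] Fin n → K) * (g : Matrix (Fin n) (Fin n) K) =
    (h : Matrix (Fin n) (Fin n) K) * LinearMap.toMatrix' (e : (Fin n → K) →ₗ[K] Fin n → K)
  apply Matrix.toLin'.injective
  rw [Matrix.toLin'_mul, Matrix.toLin'_mul, Matrix.toLin'_toMatrix']
  refine LinearMap.ext fun v => ?_
  have h1 := he v
  simp only [LinearMap.sub_apply, Module.End.one_apply, map_sub, sub_left_inj] at h1
  exact h1

omit [Fintype K] in
theorem exists_type {g : GL (Fin n) K} (hg : g ^ p = 1) :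
    ∃ μ : Nat.Partition n, (∀ a ∈ μ.parts, a ≤ p) ∧
      ∀ j, blockRank μ.parts j = jrank (g : Matrix (Fin n) (Fin n) K) j := by
  have hT : (Matrix.toLin' (g : Matrix (Fin n) (Fin n) K)) ^ p = 1 := by
    show Matrix.toLinAlgEquiv' (g : Matrix (Fin n) (Fin n) K) ^ p = 1
    rw [← map_pow, ← Units.val_pow_eq_pow_val, hg, Units.val_one, map_one]
  obtain ⟨μ, hμ, hr, hs, -⟩ := exists_blocks_char (p := p) hT (inv_top _)
  refine ⟨⟨μ, fun ha => (hμ _ ha).1, by rw [hs, finrank_top, Module.finrank_fin_fun]⟩,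
    fun a ha => (hμ a ha).2, fun j => ?_⟩
  rw [jrank_eq, ← hr j, Submodule.map_top]

theorem exists_of_type (μ : Nat.Partition n) (hμ : ∀ a ∈ μ.parts, a ≤ p) :
    ∃ g : GL (Fin n) K, g ^ p = 1 ∧
      ∀ j, blockRank μ.parts j = jrank (g : Matrix (Fin n) (Fin n) K) j := by
  obtain ⟨x, hx, hr⟩ := exists_sl_blocks (F := K) (p := p) μ.parts hμ μ.parts_sum
  refine ⟨Matrix.SpecialLinearGroup.toGL x, Units.ext ?_, fun j => ?_⟩
  · rw [Units.val_pow_eq_pow_val, Units.val_one]
    apply Matrix.toLinAlgEquiv'.injective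
    rw [map_pow, map_one]
    exact hx
  · rw [jrank_eq, ← hr j]
    rfl

/-- The all-ones partition. -/
def ones (n : ℕ) : Nat.Partition n := ⟨Multiset.replicate n 1, fun h => by
  rw [Multiset.eq_of_mem_replicate h]; exact one_pos, by simp⟩

omit [Fintype K] in
theorem eq_ones_iff {g : GL (Fin n) K} (μ : Nat.Partition n)
    (hμ : ∀ j, blockRank μ.parts j = jrank (g : Matrix (Fin n) (Fin n) K) j) : μ = ones n ↔ g = 1 := by
  constructor
  · intro h
    have h1 := hμ 1
    rw [h, jrank, pow_one] at h1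
    have h2 : blockRank (ones n).parts 1 = 0 := by simp [ones, blockRank]
    rw [h2] at h1
    have h3 : ((g : Matrix (Fin n) (Fin n) K) - 1).mulVecLin = 0 :=
      LinearMap.range_eq_bot.1 (Submodule.finrank_eq_zero.1 h1.symm)
    refine Units.ext (sub_eq_zero.1 (Matrix.toLin'.injective ?_))
    rw [map_zero, Matrix.toLin'_apply', Units.val_one, h3]
  · rintro rfl
    ext : 1
    refine eq_of_blockRank (fun a ha => μ.parts_pos ha) (fun a ha => (ones n).parts_pos ha) fun j => ?_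
    rcases Nat.eq_zero_or_pos j with rfl | hj
    · rw [blockRank_zero, blockRank_zero, μ.parts_sum, (ones n).parts_sum]
    · have h1 : jrank ((1 : GL (Fin n) K) : Matrix (Fin n) (Fin n) K) j = 0 := by
        unfold jrank
        rw [Units.val_one, sub_self, zero_pow hj.ne', Matrix.rank_zero]
      rw [hμ, h1]
      symm
      simp [ones, blockRank]
      omega

/-- Classes of elements of order `p` in a group embedded in `GL n K` with the same unipotent classes. -/
theorem card_classes {G : Type*} [Group G] (f : G →* GL (Fin n) K) (hinj : Function.Injective f)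
    (hconj : ∀ a b : G, a ^ p = 1 → b ^ p = 1 → IsConj (f a) (f b) → IsConj a b)
    (hmeet : ∀ g : GL (Fin n) K, g ^ p = 1 → ∃ a : G, IsConj (f a) g) :
    Nat.card {C : ConjClasses G // ∃ g : G, ConjClasses.mk g = C ∧ orderOf g = p} =
      (Finset.univ.filter (fun μ : Nat.Partition n => ∀ a ∈ μ.parts, a ≤ p)).card - 1 := by
  classical
  set S := Finset.univ.filter (fun μ : Nat.Partition n => ∀ a ∈ μ.parts, a ≤ p)
  have hp1 : 1 ≤ p := (Fact.out : p.Prime).one_le
  have hones : ones n ∈ S := Finset.mem_filter.2 ⟨Finset.mem_univ _, fun a ha => by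
    rw [Multiset.eq_of_mem_replicate ha]; exact hp1⟩
  rw [← Finset.card_erase_of_mem hones, ← Nat.card_eq_finsetCard]
  have key : ∀ C : {C : ConjClasses G // ∃ g : G, ConjClasses.mk g = C ∧ orderOf g = p},
      ∃ μ : {μ // μ ∈ S.erase (ones n)}, ∀ g : G, ConjClasses.mk g = C.1 →
        ∀ j, blockRank μ.1.parts j = jrank (f g : Matrix (Fin n) (Fin n) K) j := by
    rintro ⟨C, g, hgC, hg⟩
    have hgp : (f g) ^ p = 1 := by rw [← map_pow, ← hg, pow_orderOf_eq_one, map_one]
    obtain ⟨μ, hμp, hμ⟩ := exists_type hgp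
    refine ⟨⟨μ, Finset.mem_erase.2 ⟨fun h => ?_, Finset.mem_filter.2 ⟨Finset.mem_univ _, hμp⟩⟩⟩,
      fun g' hg' j => ?_⟩
    · have : g = 1 := hinj (by rw [(eq_ones_iff μ hμ).1 h, map_one])
      rw [this, orderOf_one] at hg
      exact absurd hg.symm (Fact.out : p.Prime).one_lt.ne'
    · rw [hμ]
      exact jrank_of_isConj (f.map_isConj (ConjClasses.mk_eq_mk_iff_isConj.1 (hgC.trans hg'.symm))) j
  choose T hT using key
  refine Nat.card_congr (Equiv.ofBijective T ⟨?_, ?_⟩)
  · rintro ⟨C, g, rfl, hg⟩ ⟨D, h, rfl, hh⟩ hCD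
    apply Subtype.ext
    refine ConjClasses.mk_eq_mk_iff_isConj.2 (hconj g h (by rw [← hg]; exact pow_orderOf_eq_one g)
      (by rw [← hh]; exact pow_orderOf_eq_one h) (isConj_of_jrank
        (by rw [← map_pow, ← hg, pow_orderOf_eq_one, map_one])
        (by rw [← map_pow, ← hh, pow_orderOf_eq_one, map_one]) fun j => ?_))
    have h1 := hT ⟨_, g, rfl, hg⟩ g rfl j
    have h2 := hT ⟨_, h, rfl, hh⟩ h rfl j
    rw [← h1, ← h2, hCD]
  · rintro ⟨μ, hμ⟩
    obtain ⟨hμ1, hμS⟩ := Finset.mem_erase.1 hμ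
    obtain ⟨g, hg, hr⟩ := exists_of_type (K := K) μ (Finset.mem_filter.1 hμS).2
    obtain ⟨a, ha⟩ := hmeet g hg
    have hap : a ^ p = 1 := hinj (by
      obtain ⟨c, hc⟩ := isConj_iff.1 ha.symm
      rw [map_pow, map_one, ← hc, conj_pow, hg, mul_one, mul_inv_cancel])
    have ha1 : a ≠ 1 := fun h => hμ1 ((eq_ones_iff (g := g) μ hr).2 (by
      rw [h, map_one] at ha; exact isConj_one_right.1 ha))
    refine ⟨⟨_, a, rfl, orderOf_eq_prime hap ha1⟩, Subtype.ext ?_⟩
    ext : 1
    refine eq_of_blockRank (fun b hb => Nat.Partition.parts_pos _ hb) (fun b hb => μ.parts_pos hb) fun j => ?_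
    have h1 := hT ⟨_, a, rfl, orderOf_eq_prime hap ha1⟩ a rfl j
    rw [h1, hr, jrank_of_isConj ha]

theorem rank_map (φ : K →+* K) (M : Matrix (Fin n) (Fin n) K) : (M.map φ).rank = M.rank := by
  have hφ : Function.Bijective φ := (Finite.injective_iff_bijective).1 φ.injective
  let e := Equiv.ofBijective φ hφ
  let E : (Fin n → K) ≃ (Fin n → K) := Equiv.piCongrRight fun _ => e
  have hE : ∀ v, E v = φ ∘ v := fun v => rfl
  have hr : ∀ w, w ∈ LinearMap.range M.mulVecLin ↔ E w ∈ LinearMap.range (M.map φ).mulVecLin := by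
    intro w
    constructor
    · rintro ⟨v, rfl⟩
      exact ⟨E v, funext fun i => (RingHom.map_mulVec φ M v i).symm⟩
    · rintro ⟨v, hv⟩
      refine ⟨E.symm v, E.injective (funext fun i => ?_)⟩
      have h1 := congrFun hv i
      rw [← E.apply_symm_apply v] at h1
      exact (RingHom.map_mulVec φ M _ i).trans h1
  have hc := Nat.card_congr (E.subtypeEquiv hr :
    {w // w ∈ LinearMap.range M.mulVecLin} ≃ {w // w ∈ LinearMap.range (M.map φ).mulVecLin})
  rw [Module.natCard_eq_pow_finrank (K := K) (V := ↥(LinearMap.range M.mulVecLin)),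
    Module.natCard_eq_pow_finrank (K := K) (V := ↥(LinearMap.range (M.map φ).mulVecLin))] at hc
  exact (Nat.pow_right_injective (by rw [Nat.card_eq_fintype_card]; exact Fintype.one_lt_card) hc).symm

end CfsgLib.UnipClass
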